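import Mathlib

/-!
The Cayley transform between unipotent isometries and skew-adjoint nilpotent matrices.
-/

set_option autoImplicit false
set_option linter.unusedSectionVars false

namespace CfsgLib.SympUnip

open Matrix

variable {F : Type*} [Field F] {ι : Type*} [Fintype ι] [DecidableEq ι]

/-- The Cayley transform. -/
noncomputable def cay (X : Matrix ι ι F) : Matrix ι ι F := (X - 1) * (X + 1)⁻¹

theorem isUnit_add_one (h2 : (2 : F) ≠ 0) {X : Matrix ι ι F} (hX : IsNilpotent (X - 1)) : IsUnit (X + 1) := by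
  rw [show X + 1 = (X - 1) + (2 : F) • (1 : Matrix ι ι F) by rw [two_smul]; abel]
  refine IsNilpotent.isUnit_add_right_of_commute hX ?_ ((Commute.one_right _).smul_right _)
  rw [← Algebra.algebraMap_eq_smul_one]
  exact (isUnit_iff_ne_zero.2 h2).map _

variable {X : Matrix ι ι F}

theorem cay_mul (hX : IsUnit (X + 1)) : cay X * (X + 1) = X - 1 :=
  Matrix.nonsing_inv_mul_cancel_right _ _ ((Matrix.isUnit_iff_isUnit_det _).1 hX)

theorem one_sub_cay_mul (hX : IsUnit (X + 1)) : (1 - cay X) * (X + 1) = (2 : F) • 1 := by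
  rw [sub_mul, one_mul, cay_mul hX, two_smul]; abel

theorem cay_skew (hX : IsUnit (X + 1)) {J : Matrix ι ι F} (hJ : Xᵀ * J * X = J) :
    (cay X)ᵀ * J = -(J * cay X) := by
  have h : (X + 1)ᵀ * ((cay X)ᵀ * J + J * cay X) * (X + 1) = 0 := by
    rw [show (X + 1)ᵀ * ((cay X)ᵀ * J + J * cay X) * (X + 1) =
      (cay X * (X + 1))ᵀ * J * (X + 1) + (X + 1)ᵀ * J * (cay X * (X + 1)) by
        rw [transpose_mul]; noncomm_ring, cay_mul hX, transpose_sub, transpose_add, transpose_one,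
      show (Xᵀ - 1) * J * (X + 1) + (Xᵀ + 1) * J * (X - 1) = (Xᵀ * J * X - J) + (Xᵀ * J * X - J) by
        noncomm_ring, hJ, sub_self, add_zero]
  have hT : IsUnit (X + 1)ᵀ := (Matrix.isUnit_iff_isUnit_det _).2 (by
    rw [det_transpose]; exact (Matrix.isUnit_iff_isUnit_det _).1 hX)
  exact eq_neg_of_add_eq_zero_left ((IsUnit.mul_right_eq_zero hT).1 ((IsUnit.mul_left_eq_zero hX).1 h))

theorem cay_injective (h2 : (2 : F) ≠ 0) {Y : Matrix ι ι F} (hX : IsUnit (X + 1)) (hY : IsUnit (Y + 1))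
    (h : cay X = cay Y) : X = Y := by
  have hu : IsUnit (1 - cay X) := by
    refine IsUnit.of_mul_eq_one ((2 : F)⁻¹ • (X + 1)) ?_
    rw [Matrix.mul_smul, one_sub_cay_mul hX, smul_smul, inv_mul_cancel₀ h2, one_smul]
  have e : (1 - cay X) * (X + 1) = (1 - cay X) * (Y + 1) := by
    rw [one_sub_cay_mul hX, h, one_sub_cay_mul hY]
  exact add_right_cancel (hu.mul_left_cancel e)

theorem cay_conj (hX : IsUnit (X + 1)) {C D : Matrix ι ι F} (hCD : C * D = 1) (hDC : D * C = 1) :
    IsUnit (C * X * D + 1) ∧ cay (C * X * D) = C * cay X * D := by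
  have e : C * X * D + 1 = C * (X + 1) * D := by rw [mul_add, add_mul, mul_one, hCD]
  have hu : IsUnit (C * X * D + 1) := by
    rw [e]; exact ((IsUnit.of_mul_eq_one _ hCD).mul hX).mul (IsUnit.of_mul_eq_one _ hDC)
  refine ⟨hu, hu.mul_right_cancel ?_⟩
  rw [cay_mul hu, e]
  calc C * X * D - 1 = C * (X - 1) * D := by rw [mul_sub, sub_mul, mul_one, hCD]
    _ = C * (cay X * (X + 1)) * D := by rw [cay_mul hX]
    _ = C * cay X * (D * C) * ((X + 1) * D) := by rw [hDC]; simp only [mul_one, Matrix.mul_assoc]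
    _ = C * cay X * D * (C * (X + 1) * D) := by simp only [Matrix.mul_assoc]

theorem exists_of_skew (h2 : (2 : F) ≠ 0) {J N : Matrix ι ι F} (hN : IsNilpotent N) (hJ : Nᵀ * J = -(J * N)) :
    ∃ X : Matrix ι ι F, Xᵀ * J * X = J ∧ IsUnit (X + 1) ∧ cay X = N := by
  obtain ⟨u, hu⟩ := hN.isUnit_one_sub
  let U : Matrix ι ι F := (↑u⁻¹ : Matrix ι ι F)
  have hUu : U * (1 - N) = 1 := by rw [← hu]; exact u.inv_mul
  have hX1 : (1 + N) * U + 1 = (2 : F) • U := by
    refine u.isUnit.mul_right_cancel ?_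
    rw [hu, add_mul, Matrix.mul_assoc, hUu, mul_one, one_mul, Matrix.smul_mul, hUu, two_smul]
    abel
  have hXu : IsUnit ((1 + N) * U + 1) := by
    rw [hX1, Algebra.smul_def]
    exact ((isUnit_iff_ne_zero.2 h2).map _).mul u⁻¹.isUnit
  refine ⟨(1 + N) * U, ?_, hXu, ?_⟩
  · have h0 : Nᵀ * J + J * N = 0 := by rw [hJ, neg_add_cancel]
    have e : (1 + N)ᵀ * J * (1 + N) = (1 - N)ᵀ * J * (1 - N) := by
      refine sub_eq_zero.1 ?_
      rw [transpose_add, transpose_sub, transpose_one,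
        show (1 + Nᵀ) * J * (1 + N) - (1 - Nᵀ) * J * (1 - N) = (Nᵀ * J + J * N) + (Nᵀ * J + J * N) by
          noncomm_ring, h0, add_zero]
    calc ((1 + N) * U)ᵀ * J * ((1 + N) * U) = Uᵀ * ((1 + N)ᵀ * J * (1 + N)) * U := by
          rw [transpose_mul]; simp only [Matrix.mul_assoc]
      _ = ((1 - N) * U)ᵀ * J * ((1 - N) * U) := by
          rw [e, transpose_mul]; simp only [Matrix.mul_assoc]
      _ = J := by rw [← hu, u.mul_inv, transpose_one, one_mul, mul_one]
  · refine hXu.mul_right_cancel ?_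
    rw [cay_mul hXu]
    refine u.isUnit.mul_right_cancel ?_
    rw [hu, sub_mul, Matrix.mul_assoc N, add_mul ((1 + N) * U), Matrix.mul_assoc (1 + N), hUu, mul_one, one_mul]
    noncomm_ring

theorem cay_pow_eq_zero_iff (hX : IsUnit (X + 1)) (k : ℕ) : cay X ^ k = 0 ↔ (X - 1) ^ k = 0 := by
  have hc : Commute (cay X) (X + 1) := by
    show cay X * (X + 1) = (X + 1) * cay X
    refine hX.mul_right_cancel ?_
    rw [Matrix.mul_assoc (X + 1), cay_mul hX]
    noncomm_ring
  rw [show X - 1 = cay X * (X + 1) from (cay_mul hX).symm, hc.mul_pow]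
  exact ⟨fun h => by rw [h, zero_mul], fun h => (IsUnit.mul_left_eq_zero (hX.pow k)).1 h⟩

theorem pow_char_eq_one_iff {p : ℕ} [Fact p.Prime] [CharP F p] (X : Matrix ι ι F) :
    X ^ p = 1 ↔ (X - 1) ^ p = 0 := by
  rcases isEmpty_or_nonempty ι with h | h
  · exact ⟨fun _ => Subsingleton.elim _ _, fun _ => Subsingleton.elim _ _⟩
  have : CharP (Matrix ι ι F) p := charP_of_injective_algebraMap (algebraMap F _).injective p
  rw [sub_pow_char_of_commute p (Commute.one_right _), one_pow, sub_eq_zero]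

end CfsgLib.SympUnip
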