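import Cfsg.Agent.Lib.SympUnip.Blocks
import Cfsg.Agent.Lib.SympUnip.Cayley
import Cfsg.Agent.Helper57JordanTypes

/-!
Skew-adjoint nilpotent matrices in shift coordinates.
-/

set_option autoImplicit false
set_option linter.unusedSectionVars false

namespace CfsgLib.SympUnip

open Matrix CfsgLib.UnitaryUnip CfsgLib.RankProfile Cfsg.Agent.Jordan57

/-- The parts of a partition as a tuple. -/
noncomputable def partFun {n : ℕ} (μ : Nat.Partition n) : Fin (μ.parts.sort (· ≤ ·)).length → ℕ :=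
  (μ.parts.sort (· ≤ ·)).get

theorem parts_partFun {n : ℕ} (μ : Nat.Partition n) : Finset.univ.val.map (partFun μ) = μ.parts := by
  rw [Fin.univ_val_map, partFun, List.ofFn_get, Multiset.sort_eq]

theorem partFun_mem {n : ℕ} (μ : Nat.Partition n) (k : Fin (μ.parts.sort (· ≤ ·)).length) :
    partFun μ k ∈ μ.parts :=
  parts_partFun μ ▸ Multiset.mem_map_of_mem _ (Finset.mem_univ k)

theorem partFun_pos {n : ℕ} (μ : Nat.Partition n) (k : Fin (μ.parts.sort (· ≤ ·)).length) :
    0 < partFun μ k := μ.parts_pos (partFun_mem μ k)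

theorem partFun_lt {n : ℕ} (μ : Nat.Partition n) (k : Fin (μ.parts.sort (· ≤ ·)).length) :
    partFun μ k < n + 1 :=
  Nat.lt_succ_of_le ((Multiset.le_sum_of_mem (partFun_mem μ k)).trans μ.parts_sum.le)

theorem card_partFun {n : ℕ} (μ : Nat.Partition n) (a : ℕ) :
    Fintype.card {k // partFun μ k = a} = μ.parts.count a := by
  rw [Fintype.card_subtype, ← Cfsg.Agent.JordanForm57.count_partsOf, Cfsg.Agent.JordanForm57.partsOf,
    parts_partFun]

variable {F : Type*} [Field F] [Fintype F] {ι : Type*} [Fintype ι] [DecidableEq ι] {t : ℕ} {d : Fin t → ℕ}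

theorem jordan_sub_one : Cfsg.jordanTypeMatrix d F - 1 = (jshift d : Matrix (Ix d) (Ix d) F) := by
  ext ⟨k, i⟩ ⟨l, j⟩
  rw [jshift_apply, Matrix.sub_apply, Cfsg.jordanTypeMatrix, shiftEntry]
  by_cases hkl : k = l
  · subst hkl
    rw [Matrix.blockDiagonal'_apply_eq]
    simp only [Cfsg.jordanBlock, Matrix.of_apply, Matrix.one_apply, Sigma.mk.injEq, heq_eq_eq, true_and]
    by_cases hij : i = j
    · subst hij; simp
    · have : (i : ℕ) ≠ j := Fin.val_ne_of_ne hij
      simp [hij, this]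
  · rw [Matrix.blockDiagonal'_apply_ne _ _ _ hkl, Matrix.one_apply_ne (by simp [hkl]),
      if_neg fun h => hkl h.1, sub_zero]

/-- Shift coordinates for `N`. -/
def IsRep (N : Matrix ι ι F) (P : Matrix ι (Ix d) F) (Q : Matrix (Ix d) ι F) : Prop :=
  P * Q = 1 ∧ Q * P = 1 ∧ N * P = P * (jshift d : Matrix (Ix d) (Ix d) F)

variable {N : Matrix ι ι F} {P : Matrix ι (Ix d) F} {Q : Matrix (Ix d) ι F}

theorem IsRep.pow_mul (h : IsRep N P Q) (j : ℕ) : N ^ j * P = P * (jshift d : Matrix (Ix d) (Ix d) F) ^ j := by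
  induction j with
  | zero => simp
  | succ j ih => rw [pow_succ, Matrix.mul_assoc, h.2.2, ← Matrix.mul_assoc, ih, Matrix.mul_assoc, ← pow_succ]

theorem IsRep.mul_left (h : IsRep N P Q) : Q * N = (jshift d : Matrix (Ix d) (Ix d) F) * Q := by
  calc Q * N = Q * (N * P) * Q := by rw [Matrix.mul_assoc, Matrix.mul_assoc N, h.1, Matrix.mul_one]
    _ = _ := by rw [h.2.2, ← Matrix.mul_assoc Q, h.2.1, Matrix.one_mul]

theorem IsRep.rank_pow (h : IsRep N P Q) (hd : ∀ k, 0 < d k) (j : ℕ) :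
    (N ^ j).rank = partProfile (Finset.univ.val.map d) j := by
  have e1 : N ^ j = P * ((jshift d : Matrix (Ix d) (Ix d) F) ^ j * Q) := by
    rw [← Matrix.mul_assoc, ← h.pow_mul, Matrix.mul_assoc, h.1, Matrix.mul_one]
  have e2 : (jshift d : Matrix (Ix d) (Ix d) F) ^ j = Q * (N ^ j * P) := by
    rw [h.pow_mul, ← Matrix.mul_assoc, h.2.1, Matrix.one_mul]
  have := Cfsg.Agent.JordanForm57.jordan_profile (F := F) d hd j
  rw [jordan_sub_one] at this
  rw [show Finset.univ.val.map d = Cfsg.Agent.JordanForm57.partsOf d from rfl, ← this]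
  refine le_antisymm ?_ ?_
  · rw [e1]; exact (Matrix.rank_mul_le_right _ _).trans (Matrix.rank_mul_le_left _ _)
  · rw [e2]; exact (Matrix.rank_mul_le_right _ _).trans (Matrix.rank_mul_le_left _ _)

theorem IsRep.isSkewForm {J : Matrix ι ι F} (hJ : Jᵀ = -J) (h : IsRep N P Q) (hN : Nᵀ * J = -(J * N)) :
    IsSkewForm d (Pᵀ * J * P) := by
  refine ⟨?_, ?_⟩
  · rw [transpose_mul, transpose_mul, transpose_transpose, hJ, Matrix.neg_mul, Matrix.mul_neg, Matrix.mul_assoc]
  · calc (jshift d : Matrix (Ix d) (Ix d) F)ᵀ * (Pᵀ * J * P) = (N * P)ᵀ * J * P := by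
          rw [h.2.2, transpose_mul]; simp only [Matrix.mul_assoc]
      _ = Pᵀ * (Nᵀ * J) * P := by rw [transpose_mul]; simp only [Matrix.mul_assoc]
      _ = -(Pᵀ * J * (N * P)) := by
          rw [hN, Matrix.mul_neg, Matrix.neg_mul]; simp only [Matrix.mul_assoc]
      _ = _ := by rw [h.2.2]; simp only [Matrix.mul_assoc]

theorem IsRep.isUnit_form {J : Matrix ι ι F} (hJ : IsUnit J) (h : IsRep N P Q) : IsUnit (Pᵀ * J * P) := by
  obtain ⟨u, rfl⟩ := hJ
  refine IsUnit.of_mul_eq_one (Q * (↑u⁻¹ : Matrix ι ι F) * Qᵀ) ?_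
  calc Pᵀ * (u : Matrix ι ι F) * P * (Q * (↑u⁻¹ : Matrix ι ι F) * Qᵀ)
      = Pᵀ * ((u : Matrix ι ι F) * (P * Q) * (↑u⁻¹ : Matrix ι ι F)) * Qᵀ := by simp only [Matrix.mul_assoc]
    _ = 1 := by rw [h.1, Matrix.mul_one, u.mul_inv, Matrix.mul_one, ← transpose_mul, h.2.1, transpose_one]

theorem exists_type (hN : IsNilpotent N) {n : ℕ} (hn : Fintype.card ι = n) :
    ∃ μ : Nat.Partition n, ∀ j, (N ^ j).rank = partProfile μ.parts j := by
  obtain ⟨C⟩ := exists_chains (hN.map (Matrix.toLinAlgEquiv' (R := F) (n := ι)))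
  have hr : ∀ j, (N ^ j).rank = partProfile C.parts j := fun j => by
    rw [← C.finrank_range_pow, Matrix.rank]
    have e := map_pow (Matrix.toLinAlgEquiv' (R := F) (n := ι)) N j
    exact congrArg (fun f : Module.End F (ι → F) => Module.finrank F (LinearMap.range f)) e
  refine ⟨⟨C.parts, fun {a} ha => C.parts_pos a ha, ?_⟩, hr⟩
  have := hr 0
  rw [pow_zero, Matrix.rank_one, partProfile_zero, hn] at this
  exact this.symm

theorem exists_rep (hN : IsNilpotent N) (hd : ∀ k, 0 < d k)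
    (h : ∀ j, (N ^ j).rank = partProfile (Finset.univ.val.map d) j) :
    ∃ (P : Matrix ι (Ix d) F) (Q : Matrix (Ix d) ι F), IsRep N P Q := by
  have hf : IsNilpotent (Matrix.toLinAlgEquiv' (R := F) (n := ι) N) := hN.map _
  obtain ⟨T, hT⟩ := conj_of_profile (f := jordanN d F) (g := Matrix.toLinAlgEquiv' (R := F) (n := ι) N)
    (jordanN_isNilpotent d hd) hf (fun j => by
      rw [(jordanChains (F := F) d hd).finrank_range_pow j, show (jordanChains (F := F) d hd).parts =
        Finset.univ.val.map d from rfl, ← h, Matrix.rank]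
      have e := map_pow (Matrix.toLinAlgEquiv' (R := F) (n := ι)) N j
      exact congrArg (fun f : Module.End F (ι → F) => Module.finrank F (LinearMap.range f)) e)
  refine ⟨LinearMap.toMatrix' T.toLinearMap, LinearMap.toMatrix' T.symm.toLinearMap, ?_, ?_, ?_⟩
  · rw [← LinearMap.toMatrix'_comp]; simp
  · rw [← LinearMap.toMatrix'_comp]; simp
  · have e := congrArg LinearMap.toMatrix' hT
    rw [LinearMap.toMatrix'_comp, LinearMap.toMatrix'_comp, jordanN, jordan_sub_one,
      ← Matrix.toLin'_apply', LinearMap.toMatrix'_toLin'] at e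
    rw [e]
    congr 1
    exact (LinearMap.toMatrix'_toLin' N).symm

end CfsgLib.SympUnip
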