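import Cfsg.Agent.Lib.UnitaryUnip.BlockProduct

/-!
Skew forms anti-commuting with a shift: leading blocks and congruence.
-/

set_option autoImplicit false
set_option linter.unusedSectionVars false

namespace CfsgLib.SympUnip

open Matrix CfsgLib.UnitaryUnip

variable {F : Type*} [Field F] [Fintype F] {t : ℕ} {d : Fin t → ℕ}

/-- The alternating signs along the chains. -/
def sgn (d : Fin t → ℕ) : Matrix (Ix d) (Ix d) F := Matrix.diagonal fun a => (-1) ^ (a.2 : ℕ)

/-- The standard form anti-commuting with the shift. -/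
def twM (d : Fin t → ℕ) : Matrix (Ix d) (Ix d) F := jrev d * sgn d

/-- Its inverse. -/
def twInv (d : Fin t → ℕ) : Matrix (Ix d) (Ix d) F := sgn d * jrev d

theorem jrev_jrev : (jrev d : Matrix (Ix d) (Ix d) F) * jrev d = 1 := revM_mul_self _

theorem sgn_sgn : (sgn d : Matrix (Ix d) (Ix d) F) * sgn d = 1 := by
  rw [sgn, diagonal_mul_diagonal, ← diagonal_one]
  congr 1
  funext a
  rw [← mul_pow, neg_one_mul, neg_neg, one_pow]

theorem twM_twInv : (twM d : Matrix (Ix d) (Ix d) F) * twInv d = 1 := by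
  rw [twM, twInv, Matrix.mul_assoc, ← Matrix.mul_assoc (sgn d), sgn_sgn, Matrix.one_mul, jrev_jrev]

theorem twInv_twM : (twInv d : Matrix (Ix d) (Ix d) F) * twM d = 1 := by
  rw [twM, twInv, Matrix.mul_assoc, ← Matrix.mul_assoc (jrev d), jrev_jrev, Matrix.one_mul, sgn_sgn]

theorem revPerm_refl (k : Fin t) (i : Fin (d k)) :
    revPerm (Equiv.refl (Ix d)) ⟨k, i⟩ = ⟨k, i.rev⟩ := by
  simpa using revPerm_apply (d := d) (Equiv.refl _) k i

theorem twInv_mul_apply (X : Matrix (Ix d) (Ix d) F) (k : Fin t) (i : Fin (d k)) (b : Ix d) :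
    (twInv d * X : Matrix (Ix d) (Ix d) F) ⟨k, i⟩ b = (-1) ^ (i : ℕ) * X ⟨k, i.rev⟩ b := by
  rw [twInv, Matrix.mul_assoc, sgn, diagonal_mul, revM_mul, revPerm_refl]

theorem twM_mul_apply (X : Matrix (Ix d) (Ix d) F) (k : Fin t) (i : Fin (d k)) (b : Ix d) :
    (twM d * X : Matrix (Ix d) (Ix d) F) ⟨k, i⟩ b = (-1) ^ (i.rev : ℕ) * X ⟨k, i.rev⟩ b := by
  rw [twM, Matrix.mul_assoc, revM_mul, sgn, diagonal_mul, revPerm_refl]

theorem mul_twM_apply (X : Matrix (Ix d) (Ix d) F) (a : Ix d) (l : Fin t) (j : Fin (d l)) :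
    (X * twM d : Matrix (Ix d) (Ix d) F) a ⟨l, j⟩ = X a ⟨l, j.rev⟩ * (-1) ^ (j : ℕ) := by
  rw [twM, ← Matrix.mul_assoc, sgn, mul_diagonal, mul_revM, revPerm_refl]

theorem twM_jshift :
    (jshift d : Matrix (Ix d) (Ix d) F)ᵀ * twM d = -(twM d * jshift d) := by
  have h1 : (jrev d : Matrix (Ix d) (Ix d) F) * jshift d = (jshift d)ᵀ * jrev d := by
    have h := revM_shiftM (RingHom.id F) (Equiv.refl (Ix d))
    rwa [conjT, show (shiftM (Equiv.refl (Ix d)) : Matrix (Ix d) (Ix d) F).map ⇑(RingHom.id F) =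
      jshift d from Matrix.ext fun _ _ => rfl] at h
  have h2 : (sgn d : Matrix (Ix d) (Ix d) F) * jshift d = -(jshift d * sgn d) := by
    ext a b
    rw [sgn, Matrix.neg_apply, diagonal_mul, mul_diagonal, jshift_apply, shiftEntry]
    split_ifs with h
    · rw [h.2, pow_succ]; ring
    · simp
  rw [twM, Matrix.mul_assoc, h2, Matrix.mul_neg, neg_neg, ← Matrix.mul_assoc, ← Matrix.mul_assoc, h1]

theorem twInv_jshift :
    (twInv d : Matrix (Ix d) (Ix d) F) * (jshift d)ᵀ = -(jshift d * twInv d) := by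
  calc (twInv d : Matrix (Ix d) (Ix d) F) * (jshift d)ᵀ
      = twInv d * ((jshift d)ᵀ * twM d) * twInv d := by
        rw [← Matrix.mul_assoc, Matrix.mul_assoc _ (twM d), twM_twInv, Matrix.mul_one]
    _ = _ := by
        rw [twM_jshift, Matrix.mul_neg, Matrix.neg_mul, ← Matrix.mul_assoc, twInv_twM, Matrix.one_mul]

/-- Skew forms for which the shift is skew-adjoint. -/
def IsSkewForm (d : Fin t → ℕ) (G : Matrix (Ix d) (Ix d) F) : Prop :=
  Gᵀ = -G ∧ (jshift d)ᵀ * G = -(G * jshift d)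

variable {G G' : Matrix (Ix d) (Ix d) F}

theorem comm_twInv_mul (hG : IsSkewForm d G) : Commute (twInv d * G) (jshift d) := by
  show twInv d * G * jshift d = jshift d * (twInv d * G)
  rw [Matrix.mul_assoc, show G * jshift d = -((jshift d)ᵀ * G) by rw [hG.2, neg_neg], Matrix.mul_neg,
    ← Matrix.mul_assoc, twInv_jshift, Matrix.neg_mul, neg_neg, Matrix.mul_assoc]

theorem IsSkewForm.congr (hG : IsSkewForm d G) {a : Matrix (Ix d) (Ix d) F} (ha : Commute a (jshift d)) :
    IsSkewForm d (aᵀ * G * a) := by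
  refine ⟨?_, ?_⟩
  · rw [transpose_mul, transpose_mul, transpose_transpose, hG.1, Matrix.neg_mul, Matrix.mul_neg,
      Matrix.mul_assoc]
  · have h1 : (jshift d)ᵀ * aᵀ = aᵀ * (jshift d : Matrix (Ix d) (Ix d) F)ᵀ := by
      rw [← transpose_mul, ← transpose_mul, ha.eq]
    rw [← Matrix.mul_assoc, ← Matrix.mul_assoc, h1, Matrix.mul_assoc aᵀ, hG.2, Matrix.mul_neg,
      Matrix.neg_mul, ← Matrix.mul_assoc, Matrix.mul_assoc (aᵀ * G), ← ha.eq, ← Matrix.mul_assoc]

theorem twist_comm {a : Matrix (Ix d) (Ix d) F} (ha : Commute a (jshift d)) :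
    Commute (twInv d * aᵀ * twM d) (jshift d) := by
  have h1 : (jshift d)ᵀ * aᵀ = aᵀ * (jshift d : Matrix (Ix d) (Ix d) F)ᵀ := by
    rw [← transpose_mul, ← transpose_mul, ha.eq]
  show twInv d * aᵀ * twM d * jshift d = jshift d * (twInv d * aᵀ * twM d)
  calc twInv d * aᵀ * twM d * jshift d
      = twInv d * aᵀ * -((jshift d)ᵀ * twM d) := by rw [twM_jshift, neg_neg, Matrix.mul_assoc]
    _ = -(twInv d * (jshift d)ᵀ * aᵀ * twM d) := by
        rw [Matrix.mul_neg, Matrix.mul_assoc _ (jshift d)ᵀ, h1]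
        simp only [Matrix.mul_assoc]
    _ = _ := by
        rw [twInv_jshift, Matrix.neg_mul, Matrix.neg_mul, neg_neg]
        simp only [Matrix.mul_assoc]

variable (hd : ∀ k, 0 < d k)

/-- The leading blocks of a skew form. -/
def blk (d : Fin t → ℕ) (hd : ∀ k, 0 < d k) (G : Matrix (Ix d) (Ix d) F) : Matrix (Fin t) (Fin t) F :=
  lead d hd (twInv d * G)

theorem lead_twist {a : Matrix (Ix d) (Ix d) F} (ha : Commute a (jshift d)) :
    lead d hd (twInv d * aᵀ * twM d) = (lead d hd a)ᵀ := by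
  ext k l
  simp only [lead, Matrix.transpose_apply, Matrix.of_apply]
  by_cases hkl : d k = d l
  · rw [if_pos hkl, if_pos hkl.symm, Matrix.mul_assoc, twInv_mul_apply, mul_twM_apply,
      Matrix.transpose_apply]
    simp only [pow_zero, one_mul, mul_one]
    rw [show (Fin.rev ⟨0, hd l⟩ : Fin (d l)) = ⟨d l - 1, by have := hd l; omega⟩ from Fin.ext (by simp),
      show (Fin.rev ⟨0, hd k⟩ : Fin (d k)) = ⟨d k - 1, by have := hd k; omega⟩ from Fin.ext (by simp),
      comm_entry ha, if_pos (by omega)]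
    congr 3
    omega
  · rw [if_neg hkl, if_neg fun h => hkl h.symm]

theorem blk_congr (hG : IsSkewForm d G) {a : Matrix (Ix d) (Ix d) F} (ha : Commute a (jshift d)) :
    blk d hd (aᵀ * G * a) = (lead d hd a)ᵀ * blk d hd G * lead d hd a := by
  have e : twInv d * (aᵀ * G * a) = twInv d * aᵀ * twM d * (twInv d * G) * a := by
    rw [Matrix.mul_assoc _ (twM d), ← Matrix.mul_assoc (twM d), twM_twInv, Matrix.one_mul]
    simp only [Matrix.mul_assoc]
  rw [blk, e, lead_mul hd ((twist_comm ha).mul_left (comm_twInv_mul hG)) ha,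
    lead_mul hd (twist_comm ha) (comm_twInv_mul hG), lead_twist hd ha]
  rfl

theorem blk_transpose (hG : IsSkewForm d G) (k l : Fin t) :
    blk d hd G l k = (-1) ^ d k * blk d hd G k l := by
  simp only [blk, lead, Matrix.of_apply]
  by_cases hkl : d k = d l
  · rw [if_pos hkl.symm, if_pos hkl]
    set h := twInv d * G with hh
    have hGh : G = twM d * h := by rw [hh, ← Matrix.mul_assoc, twM_twInv, Matrix.one_mul]
    have e1 : h ⟨l, ⟨0, hd l⟩⟩ ⟨k, ⟨0, hd k⟩⟩ = G ⟨l, Fin.rev ⟨0, hd l⟩⟩ ⟨k, ⟨0, hd k⟩⟩ := by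
      rw [hh, twInv_mul_apply, pow_zero, one_mul]
    have e2 := congrFun (congrFun hG.1 ⟨l, Fin.rev ⟨0, hd l⟩⟩) ⟨k, ⟨0, hd k⟩⟩
    rw [Matrix.transpose_apply, Matrix.neg_apply, ← e1] at e2
    rw [show h ⟨l, ⟨0, hd l⟩⟩ ⟨k, ⟨0, hd k⟩⟩ = -G ⟨k, ⟨0, hd k⟩⟩ ⟨l, Fin.rev ⟨0, hd l⟩⟩ by
      rw [e2, neg_neg], hGh, twM_mul_apply,
      show (Fin.rev ⟨0, hd l⟩ : Fin (d l)) = ⟨d l - 1, by have := hd l; omega⟩ from Fin.ext (by simp),
      show (Fin.rev ⟨0, hd k⟩ : Fin (d k)) = ⟨d k - 1, by have := hd k; omega⟩ from Fin.ext (by simp),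
      comm_entry (show Commute h (jshift d) from comm_twInv_mul hG), if_pos (by omega)]
    have e3 : (⟨d k - 1 - (d l - 1), by have := hd k; omega⟩ : Fin (d k)) = ⟨0, hd k⟩ := Fin.ext (by
      show d k - 1 - (d l - 1) = 0; omega)
    rw [e3]
    obtain ⟨c, hc⟩ : ∃ c, d k = c + 1 := ⟨d k - 1, by have := hd k; omega⟩
    show -((-1) ^ (d k - 1) * _) = _
    rw [show (-1 : F) ^ d k = -((-1) ^ (d k - 1)) by rw [hc, Nat.add_sub_cancel, pow_succ]; ring]
    ring
  · rw [if_neg fun h => hkl h.symm, if_neg hkl, mul_zero]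

theorem lead_isUnit_inv {a b : Matrix (Ix d) (Ix d) F} (ha : Commute a (jshift d))
    (hb : Commute b (jshift d)) (hab : a * b = 1) : lead d hd a * lead d hd b = 1 := by
  rw [← lead_mul hd ha hb, hab, lead_one]

include hd in
theorem lead_det_ne_zero {a : Matrix (Ix d) (Ix d) F} (ha : Commute a (jshift d)) (hu : IsUnit a) :
    (lead d hd a).det ≠ 0 := by
  obtain ⟨u, rfl⟩ := hu
  exact Matrix.det_ne_zero_of_right_inverse (lead_isUnit_inv hd ha ha.units_inv_left u.mul_inv)

/-- An element of the commutant with invertible leading blocks is invertible. -/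
theorem isUnit_of_lead {a : Matrix (Ix d) (Ix d) F} (ha : Commute a (jshift d))
    (hu : IsUnit (lead d hd a)) : IsUnit a := by
  obtain ⟨u, hu⟩ := hu
  have hpow : ∀ m : ℕ, lead d hd (a ^ m) = (u : Matrix (Fin t) (Fin t) F) ^ m := fun m => by
    induction m with
    | zero => rw [pow_zero, pow_zero, lead_one]
    | succ m ih => rw [pow_succ, lead_mul hd (ha.pow_left m) ha, ih, pow_succ, hu]
  have hnil : IsNilpotent (a ^ orderOf u - 1) := by
    refine isNilpotent_of_lead_eq_zero hd ((ha.pow_left _).sub_left (Commute.one_left _)) ?_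
    rw [lead_sub, hpow, ← Units.val_pow_eq_pow_val, pow_orderOf_eq_one, lead_one, Units.val_one, sub_self]
  have h1 := hnil.isUnit_one_add
  rw [add_sub_cancel] at h1
  exact (isUnit_pow_iff (orderOf_pos u).ne').1 h1

include hd in
/-- Forms with the same leading blocks are congruent under the commutant. -/
theorem congr_of_blk_eq {p : ℕ} [Fact p.Prime] [CharP F p] (hp : p ≠ 2) (hG : IsSkewForm d G)
    (hGu : IsUnit G) (hG' : IsSkewForm d G') (h : blk d hd G = blk d hd G') :
    ∃ a : Matrix (Ix d) (Ix d) F, Commute a (jshift d) ∧ IsUnit a ∧ aᵀ * G * a = G' := by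
  rcases isEmpty_or_nonempty (Ix d) with hE | hE
  · exact ⟨1, Commute.one_left _, isUnit_one, Matrix.ext fun i => (hE.false i).elim⟩
  obtain ⟨g, hg⟩ : IsUnit (twInv d * G) := (IsUnit.of_mul_eq_one _ twInv_twM).mul hGu
  have hgc : Commute (g : Matrix (Ix d) (Ix d) F) (jshift d) := by rw [hg]; exact comm_twInv_mul hG
  set u : Matrix (Ix d) (Ix d) F := (↑g⁻¹ : Matrix (Ix d) (Ix d) F) * (twInv d * G') with hu
  have huc : Commute u (jshift d) := hgc.units_inv_left.mul_left (comm_twInv_mul hG')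
  have hGu' : G * u = G' := by
    rw [hu, show G = twM d * (twInv d * G) by rw [← Matrix.mul_assoc, twM_twInv, Matrix.one_mul], ← hg,
      Matrix.mul_assoc, ← Matrix.mul_assoc _ (↑g⁻¹ : Matrix (Ix d) (Ix d) F), Units.mul_inv, Matrix.one_mul,
      ← Matrix.mul_assoc, twM_twInv, Matrix.one_mul]
  have hlead : lead d hd u = 1 := by
    rw [hu, lead_mul hd hgc.units_inv_left (comm_twInv_mul hG'),
      show lead d hd (twInv d * G') = lead d hd (g : Matrix (Ix d) (Ix d) F) by rw [hg]; exact h.symm,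
      lead_isUnit_inv hd hgc.units_inv_left hgc g.inv_mul]
  have : CharP (Matrix (Ix d) (Ix d) F) p :=
    charP_of_injective_algebraMap (algebraMap F _).injective p
  have hpp : p.Prime := Fact.out
  obtain ⟨j, hj⟩ : IsNilpotent (u - 1) :=
    isNilpotent_of_lead_eq_zero hd (huc.sub_left (Commute.one_left _))
      (by rw [lead_sub, hlead, lead_one, sub_self])
  have hup : u ^ p ^ j = 1 := by
    have h1 := pow_eq_zero_of_le (Nat.lt_pow_self hpp.one_lt).le hj
    rwa [sub_pow_char_pow_of_commute p j (Commute.one_right _), one_pow, sub_eq_zero] at h1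
  obtain ⟨r, hr⟩ : Even (p ^ j + 1) := ((hpp.odd_of_ne_two hp).pow).add_one
  have hskew : uᵀ * G = G * u := by
    have h1 : (G * u)ᵀ = -(G * u) := by rw [hGu']; exact hG'.1
    rw [transpose_mul, hG.1, Matrix.mul_neg, neg_inj] at h1
    exact h1
  have hskew' : ∀ i : ℕ, (u ^ i)ᵀ * G = G * u ^ i := fun i => by
    induction i with
    | zero => simp
    | succ i ih =>
      rw [pow_succ, transpose_mul, Matrix.mul_assoc, ih, ← Matrix.mul_assoc, hskew, Matrix.mul_assoc,
        ← pow_succ', pow_succ]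
  refine ⟨u ^ r, huc.pow_left r, (IsUnit.of_pow_eq_one hup (pow_ne_zero _ hpp.ne_zero)).pow r, ?_⟩
  rw [hskew', Matrix.mul_assoc, ← pow_add, ← hr, pow_succ, hup, Matrix.one_mul, hGu']

include hd in
/-- Forms with congruent leading blocks are congruent under the commutant. -/
theorem congr_of_blk_congr {p : ℕ} [Fact p.Prime] [CharP F p] (hp : p ≠ 2) (hG : IsSkewForm d G)
    (hGu : IsUnit G) (hG' : IsSkewForm d G') {B : Matrix (Fin t) (Fin t) F} (hB : B ∈ blockRing d)
    (hBu : IsUnit B) (h : Bᵀ * blk d hd G * B = blk d hd G') :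
    ∃ a : Matrix (Ix d) (Ix d) F, Commute a (jshift d) ∧ IsUnit a ∧ aᵀ * G * a = G' := by
  obtain ⟨b, hbc, hb⟩ := lead_surj hd B hB
  have hbu : IsUnit b := isUnit_of_lead hd hbc (by rw [hb]; exact hBu)
  have hu' : IsUnit (bᵀ * G * b) := by
    rw [Matrix.isUnit_iff_isUnit_det, det_mul, det_mul, det_transpose]
    have h1 := (Matrix.isUnit_iff_isUnit_det _).1 hbu
    exact (h1.mul ((Matrix.isUnit_iff_isUnit_det _).1 hGu)).mul h1
  obtain ⟨a, hac, hau, ha⟩ := congr_of_blk_eq hd hp (hG.congr hbc) hu' hG'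
    (by rw [blk_congr hd hG hbc, hb, h])
  refine ⟨b * a, hbc.mul_left hac, hbu.mul hau, ?_⟩
  rw [← ha, transpose_mul]
  simp only [Matrix.mul_assoc]

include hd in
/-- Every family of leading blocks of the right parity occurs. -/
theorem exists_of_blk {B : Matrix (Fin t) (Fin t) F} (hB : B ∈ blockRing d) (hBu : IsUnit B)
    (hsym : ∀ k l, d k = d l → B l k = (-1) ^ d k * B k l) :
    ∃ G : Matrix (Ix d) (Ix d) F, IsSkewForm d G ∧ IsUnit G ∧ blk d hd G = B := by
  let h : Matrix (Ix d) (Ix d) F := Matrix.of fun a b => if (a.2 : ℕ) = b.2 then B a.1 b.1 else 0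
  have hc : Commute h (jshift d) ∧ lead d hd h = B := by
    refine ⟨?_, ?_⟩
    · ext ⟨k, i, hi⟩ ⟨l, j, hj⟩
      rw [mul_jshift, jshift_mul]
      by_cases hkl : d k = d l
      · by_cases hij : i = j + 1
        · rw [dif_pos (by omega), if_neg (by omega)]
          simp [h, hij]
        · split_ifs with hj' h0 h0 <;> simp [h, hij] <;> omega
      · have h0 := hB k l hkl
        split_ifs <;> simp [h, h0]
    · ext k l
      simp only [lead, Matrix.of_apply, h]
      split_ifs with hkl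
      · rfl
      · exact (hB k l hkl).symm
  refine ⟨twM d * h, ⟨?_, ?_⟩, ?_, ?_⟩
  · ext ⟨k, i⟩ ⟨l, j⟩
    rw [Matrix.transpose_apply, Matrix.neg_apply, twM_mul_apply, twM_mul_apply]
    simp only [h, Matrix.of_apply]
    by_cases hkl : d k = d l
    · have := hd k
      have hi := i.isLt
      have hj := j.isLt
      by_cases hij : (i.rev : ℕ) = j
      · have hji : (j.rev : ℕ) = i := by
          simp only [Fin.val_rev] at hij ⊢; omega
        rw [if_pos hij, if_pos hji, hij, hji, hsym k l hkl, ← mul_assoc, ← pow_add, ← neg_mul]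
        congr 1
        have e : (i : ℕ) + d k + 1 = (j : ℕ) + 2 * ((i : ℕ) + 1) := by
          simp only [Fin.val_rev] at hij; omega
        rw [← mul_left_inj' (show (-1 : F) ≠ 0 from neg_ne_zero.2 one_ne_zero), ← pow_succ, e, pow_add,
          pow_mul, neg_one_sq, one_pow]
        ring
      · rw [if_neg hij, if_neg, mul_zero, mul_zero, neg_zero]
        intro hji
        apply hij
        simp only [Fin.val_rev] at hji ⊢
        omega
    · rw [hB k l hkl, hB l k (Ne.symm hkl)]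
      simp
  · rw [← Matrix.mul_assoc, twM_jshift, Matrix.neg_mul, Matrix.mul_assoc, ← hc.1.eq, ← Matrix.mul_assoc]
  · exact (IsUnit.of_mul_eq_one _ twM_twInv).mul (isUnit_of_lead hd hc.1 (by rw [hc.2]; exact hBu))
  · rw [blk, ← Matrix.mul_assoc, twInv_twM, Matrix.one_mul, hc.2]

end CfsgLib.SympUnip
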