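import Cfsg.Agent.Lib.SympUnip.Congr
import Cfsg.Agent.Lib.SympUnip.SkewCommutant

/-!
Blocks of a skew form by chain length, and congruence through their discriminants.
-/

set_option autoImplicit false
set_option linter.unusedSectionVars false

namespace CfsgLib.SympUnip

open Matrix CfsgLib.UnitaryUnip

theorem isSquare_mul_of_iff {F : Type*} [Field F] [Fintype F] (h2 : (2 : F) ≠ 0) {a b : F}
    (ha : a ≠ 0) (hb : b ≠ 0) (h : IsSquare a ↔ IsSquare b) : IsSquare (a * b) := by
  classical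
  have hF : ringChar F ≠ 2 := fun hc => h2 (by exact_mod_cast (ringChar.spec F 2).2 (by rw [hc]))
  by_cases hs : IsSquare a
  · exact hs.mul (h.1 hs)
  · refine (quadraticChar_one_iff_isSquare (mul_ne_zero ha hb)).1 ?_
    rw [map_mul, (quadraticChar_neg_one_iff_not_isSquare).2 hs,
      (quadraticChar_neg_one_iff_not_isSquare).2 (fun hs' => hs (h.2 hs'))]
    ring

theorem isSquare_mul_mul_iff {F : Type*} [Field F] {c : F} (hc : c ≠ 0) (x : F) :
    IsSquare (c * x * c) ↔ IsSquare x := by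
  constructor
  · rintro ⟨r, hr⟩
    exact ⟨r / c, by field_simp; linear_combination hr⟩
  · rintro ⟨r, rfl⟩
    exact ⟨c * r, by ring⟩

variable {F : Type*} [Field F] [Fintype F] {t : ℕ} {d : Fin t → ℕ} {M : ℕ}

/-- The block at chain length `a`. -/
def subN (d : Fin t → ℕ) (a : ℕ) (B : Matrix (Fin t) (Fin t) F) :
    Matrix {k : Fin t // d k = a} {k : Fin t // d k = a} F :=
  B.submatrix Subtype.val Subtype.val

theorem subN_transpose (a : ℕ) (B : Matrix (Fin t) (Fin t) F) : subN d a Bᵀ = (subN d a B)ᵀ := rfl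

theorem subN_one (a : ℕ) : subN d a (1 : Matrix (Fin t) (Fin t) F) = 1 :=
  Matrix.submatrix_one _ Subtype.val_injective

theorem subN_mul (a : ℕ) {X : Matrix (Fin t) (Fin t) F} (hX : X ∈ blockRing d)
    (Y : Matrix (Fin t) (Fin t) F) : subN d a (X * Y) = subN d a X * subN d a Y := by
  ext ⟨k, hk⟩ ⟨l, hl⟩
  simp only [subN, Matrix.submatrix_apply, Matrix.mul_apply]
  rw [← Finset.sum_subtype (Finset.univ.filter fun j => d j = a) (fun j => by simp) (fun j => X k j * Y j l)]
  refine (Finset.sum_filter_of_ne fun j _ hj => ?_).symm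
  by_contra hja
  exact hj (by rw [hX k j (by rw [hk]; exact Ne.symm hja), zero_mul])

theorem transpose_mem {X : Matrix (Fin t) (Fin t) F} (hX : X ∈ blockRing d) : Xᵀ ∈ blockRing d :=
  fun k l h => hX l k (Ne.symm h)

theorem subN_blockOf (hM : ∀ k, d k < M)
    (F' : (i : Fin M) → Matrix {k : Fin t // d k = (i : ℕ)} {k : Fin t // d k = (i : ℕ)} F) (i : Fin M) :
    subN d i (blockOf hM F') = F' i := by
  ext ⟨k, hk⟩ ⟨l, hl⟩
  have e1 : (fibreEquiv hM).symm k = ⟨i, k, hk⟩ := (fibreEquiv hM).symm_apply_eq.2 rfl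
  have e2 : (fibreEquiv hM).symm l = ⟨i, l, hl⟩ := (fibreEquiv hM).symm_apply_eq.2 rfl
  simp only [subN, blockOf, Matrix.submatrix_apply, Matrix.reindex_apply]
  rw [e1, e2, Matrix.blockDiagonal'_apply_eq]

theorem eq_blockOf (hM : ∀ k, d k < M) {B : Matrix (Fin t) (Fin t) F} (hB : B ∈ blockRing d) :
    blockOf hM (fun i => subN d i B) = B := by
  obtain ⟨F', rfl⟩ := exists_blockOf hM hB
  congr 1
  funext i
  exact subN_blockOf hM F' i

theorem blockOf_transpose (hM : ∀ k, d k < M)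
    (F' : (i : Fin M) → Matrix {k : Fin t // d k = (i : ℕ)} {k : Fin t // d k = (i : ℕ)} F) :
    (blockOf hM F')ᵀ = blockOf hM (fun i => (F' i)ᵀ) := by
  simp only [blockOf]
  rw [← Matrix.blockDiagonal'_transpose]
  rfl

variable {G G' : Matrix (Ix d) (Ix d) F} (hd : ∀ k, 0 < d k)

theorem blk_mem (G : Matrix (Ix d) (Ix d) F) : blk d hd G ∈ blockRing d := lead_isBlock hd _

theorem subN_blk_transpose (hG : IsSkewForm d G) (a : ℕ) :
    (subN d a (blk d hd G))ᵀ = (-1 : F) ^ a • subN d a (blk d hd G) := by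
  ext ⟨k, hk⟩ ⟨l, hl⟩
  show blk d hd G l k = (-1) ^ a * blk d hd G k l
  rw [blk_transpose hd hG, hk]

theorem subN_blk_det_ne_zero (hG : IsSkewForm d G) (hu : IsUnit G) (a : ℕ) :
    (subN d a (blk d hd G)).det ≠ 0 := by
  obtain ⟨u, hu⟩ : IsUnit (twInv d * G) := (IsUnit.of_mul_eq_one _ twInv_twM).mul hu
  have hc : Commute (u : Matrix (Ix d) (Ix d) F) (jshift d) := by rw [hu]; exact comm_twInv_mul hG
  refine Matrix.det_ne_zero_of_right_inverse (B := subN d a (lead d hd (↑u⁻¹ : Matrix (Ix d) (Ix d) F))) ?_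
  rw [← subN_mul a (blk_mem hd G), blk, ← hu, lead_isUnit_inv hd hc hc.units_inv_left u.mul_inv, subN_one]

include hd in
/-- Odd chain lengths occur evenly often. -/
theorem even_card_of_odd (h2 : (2 : F) ≠ 0) (hG : IsSkewForm d G) (hu : IsUnit G) {a : ℕ} (ha : Odd a) :
    Even (Fintype.card {k : Fin t // d k = a}) :=
  even_card_of_skew h2 (by rw [subN_blk_transpose hd hG, ha.neg_one_pow, neg_one_smul])
    (subN_blk_det_ne_zero hd hG hu a)

/-- Congruent forms have the same square classes. -/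
theorem isSquare_subN_congr (hG : IsSkewForm d G) {b : Matrix (Ix d) (Ix d) F}
    (hb : Commute b (jshift d)) (hbu : IsUnit b) (a : ℕ) :
    IsSquare (subN d a (blk d hd (bᵀ * G * b))).det ↔ IsSquare (subN d a (blk d hd G)).det := by
  have hne : (subN d a (lead d hd b)).det ≠ 0 := by
    obtain ⟨u, rfl⟩ := hbu
    refine Matrix.det_ne_zero_of_right_inverse (B := subN d a (lead d hd (↑u⁻¹ : Matrix (Ix d) (Ix d) F))) ?_
    rw [← subN_mul a (lead_isBlock hd _), lead_isUnit_inv hd hb hb.units_inv_left u.mul_inv, subN_one]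
  rw [blk_congr hd hG hb, subN_mul a (mul_mem (transpose_mem (lead_isBlock hd b)) (blk_mem hd G)),
    subN_mul a (transpose_mem (lead_isBlock hd b)), subN_transpose, det_mul, det_mul, det_transpose]
  exact isSquare_mul_mul_iff hne _

include hd in
/-- Two forms with the same square classes at the even lengths are congruent. -/
theorem congr_of_squares {p : ℕ} [Fact p.Prime] [CharP F p] (hp : p ≠ 2) (h2 : (2 : F) ≠ 0)
    (hG : IsSkewForm d G) (hGu : IsUnit G) (hG' : IsSkewForm d G') (hG'u : IsUnit G') (hM : ∀ k, d k < M)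
    (h : ∀ k, Even (d k) → (IsSquare (subN d (d k) (blk d hd G)).det ↔ IsSquare (subN d (d k) (blk d hd G')).det)) :
    ∃ b : Matrix (Ix d) (Ix d) F, Commute b (jshift d) ∧ IsUnit b ∧ bᵀ * G * b = G' := by
  have hC : ∀ i : Fin M, ∃ C : Matrix {k : Fin t // d k = (i : ℕ)} {k : Fin t // d k = (i : ℕ)} F,
      IsUnit C ∧ Cᵀ * subN d i (blk d hd G) * C = subN d i (blk d hd G') := by
    intro i
    rcases Nat.even_or_odd (i : ℕ) with hi | hi
    · refine sym_congr h2 (by rw [subN_blk_transpose hd hG, hi.neg_one_pow, one_smul])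
        (by rw [subN_blk_transpose hd hG', hi.neg_one_pow, one_smul]) (subN_blk_det_ne_zero hd hG hGu _)
        (subN_blk_det_ne_zero hd hG' hG'u _) ?_
      rcases isEmpty_or_nonempty {k : Fin t // d k = (i : ℕ)} with hE | ⟨⟨k, hk⟩⟩
      · rw [Matrix.det_isEmpty, Matrix.det_isEmpty, mul_one]
        exact IsSquare.one
      · refine isSquare_mul_of_iff h2 (subN_blk_det_ne_zero hd hG hGu _) (subN_blk_det_ne_zero hd hG' hG'u _) ?_
        have h' := h k (hk.symm ▸ hi)
        rw [hk] at h'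
        exact h'
    · obtain ⟨C, D, hCD, hDC, hC⟩ := alt_congr h2 rfl
        (by rw [subN_blk_transpose hd hG, hi.neg_one_pow, neg_one_smul]) (subN_blk_det_ne_zero hd hG hGu _)
        (by rw [subN_blk_transpose hd hG', hi.neg_one_pow, neg_one_smul]) (subN_blk_det_ne_zero hd hG' hG'u _)
      exact ⟨C, IsUnit.of_mul_eq_one _ hCD, hC⟩
  choose C hCu hC using hC
  refine congr_of_blk_congr hd hp hG hGu hG' (blockOf_mem hM C) ((isUnit_blockOf hM C).2 hCu) ?_
  rw [← eq_blockOf hM (blk_mem hd G), ← eq_blockOf hM (blk_mem hd G'), blockOf_transpose, blockOf_mul,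
    blockOf_mul]
  exact congrArg _ (funext hC)

include hd in
/-- Forms with prescribed blocks. -/
theorem exists_of_subN (hM : ∀ k, d k < M)
    (A : (i : Fin M) → Matrix {k : Fin t // d k = (i : ℕ)} {k : Fin t // d k = (i : ℕ)} F)
    (hA : ∀ i, IsUnit (A i)) (hsym : ∀ i, (A i)ᵀ = (-1 : F) ^ (i : ℕ) • A i) :
    ∃ G : Matrix (Ix d) (Ix d) F, IsSkewForm d G ∧ IsUnit G ∧ ∀ i : Fin M, subN d i (blk d hd G) = A i := by
  obtain ⟨G, hG, hGu, hGb⟩ := exists_of_blk hd (blockOf_mem hM A) ((isUnit_blockOf hM A).2 hA) (by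
    intro k l hkl
    have e := congrFun (congrFun (hsym ⟨d k, hM k⟩) ⟨k, rfl⟩) ⟨l, hkl.symm⟩
    rw [← subN_blockOf hM A ⟨d k, hM k⟩] at e
    exact e)
  exact ⟨G, hG, hGu, fun i => by rw [hGb, subN_blockOf]⟩

end CfsgLib.SympUnip
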