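import Cfsg.Agent.Lib.SympUnip.Rep
import Cfsg.Agent.Lib.PrimeClasses.Count

/-!
Conjugacy classes of elements of order `p` of `Sp_2m` in characteristic `p` by signed partitions.
-/

set_option autoImplicit false
set_option linter.unusedSectionVars false

namespace CfsgLib.SympUnip

open Matrix CfsgLib.UnitaryUnip CfsgLib.RankProfile
open scoped Classical

variable {F : Type*} [Field F] [Fintype F] {m : ℕ}

/-- The even parts of a partition. -/
def evenParts {n : ℕ} (μ : Nat.Partition n) : Finset ℕ := μ.parts.toFinset.filter fun j => Even j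

/-- The square classes at the even parts. -/
noncomputable def signs (μ : Nat.Partition (2 * m))
    (P : Matrix (Fin m ⊕ Fin m) (Ix (partFun μ)) F) : Finset ℕ :=
  (evenParts μ).filter fun a =>
    IsSquare (subN (partFun μ) a (blk (partFun μ) (partFun_pos μ) (Pᵀ * Matrix.J (Fin m) F * P))).det

/-- `b` describes `N`. -/
def HasInv (N : Matrix (Fin m ⊕ Fin m) (Fin m ⊕ Fin m) F) (b : Nat.Partition (2 * m) × Finset ℕ) : Prop :=
  ∃ (P : Matrix (Fin m ⊕ Fin m) (Ix (partFun b.1)) F) (Q : Matrix (Ix (partFun b.1)) (Fin m ⊕ Fin m) F),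
    IsRep N P Q ∧ signs b.1 P = b.2

variable {N : Matrix (Fin m ⊕ Fin m) (Fin m ⊕ Fin m) F}

theorem HasInv.rank_pow {b : Nat.Partition (2 * m) × Finset ℕ} (h : HasInv N b) (j : ℕ) :
    (N ^ j).rank = partProfile b.1.parts j := by
  obtain ⟨P, Q, h, -⟩ := h
  rw [h.rank_pow (partFun_pos _), parts_partFun]

theorem HasInv.pow_eq_zero_iff {b : Nat.Partition (2 * m) × Finset ℕ} (h : HasInv N b) (j : ℕ) :
    N ^ j = 0 ↔ ∀ a ∈ b.1.parts, a ≤ j := by
  rw [← Cfsg.Agent.Jordan57.partProfile_eq_zero_iff, ← h.rank_pow]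
  refine ⟨fun e => by rw [e, Matrix.rank_zero], fun e => ?_⟩
  rwa [Matrix.rank, Submodule.finrank_eq_zero, LinearMap.range_eq_bot, ← Matrix.toLin'_apply',
    LinearEquiv.map_eq_zero_iff] at e

theorem exists_hasInv (hN : IsNilpotent N) : ∃ b, HasInv N b := by
  obtain ⟨μ, hμ⟩ := exists_type hN (n := 2 * m) (by simp [two_mul])
  obtain ⟨P, Q, h⟩ := exists_rep hN (partFun_pos μ) (fun j => by rw [hμ, parts_partFun])
  exact ⟨(μ, signs μ P), P, Q, h, rfl⟩

theorem HasInv.eq (hN : Nᵀ * Matrix.J (Fin m) F = -(Matrix.J (Fin m) F * N))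
    {b b' : Nat.Partition (2 * m) × Finset ℕ} (h : HasInv N b) (h' : HasInv N b') : b = b' := by
  obtain ⟨μ, S⟩ := b
  obtain ⟨μ', S'⟩ := b'
  obtain rfl : μ = μ' := Nat.Partition.ext (Cfsg.Agent.Jordan57.parts_eq_of_profile
    (fun _ ha => μ.parts_pos ha) (fun _ ha => μ'.parts_pos ha) fun j => (h.rank_pow j).symm.trans (h'.rank_pow j))
  obtain ⟨P, Q, hR, hS⟩ := h
  obtain ⟨P', Q', hR', hS'⟩ := h'
  change signs μ P = S at hS
  change signs μ P' = S' at hS'
  obtain rfl : S = S' := by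
    rw [← hS, ← hS', signs, signs]
    have hca : Commute (Q * P') (jshift (partFun μ)) := by
      show Q * P' * jshift (partFun μ) = jshift (partFun μ) * (Q * P')
      rw [Matrix.mul_assoc, ← hR'.2.2, ← Matrix.mul_assoc, hR.mul_left, Matrix.mul_assoc]
    have hua : IsUnit (Q * P') := IsUnit.of_mul_eq_one (Q' * P) (by
      rw [Matrix.mul_assoc, ← Matrix.mul_assoc P', hR'.1, Matrix.one_mul, hR.2.1])
    have e : P'ᵀ * Matrix.J (Fin m) F * P' = (Q * P')ᵀ * (Pᵀ * Matrix.J (Fin m) F * P) * (Q * P') := by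
      calc P'ᵀ * Matrix.J (Fin m) F * P' = (P * Q * P')ᵀ * Matrix.J (Fin m) F * (P * Q * P') := by
            rw [hR.1, Matrix.one_mul]
        _ = _ := by simp only [transpose_mul, Matrix.mul_assoc]
    refine Finset.filter_congr fun a _ => ?_
    rw [e]
    exact (isSquare_subN_congr (partFun_pos μ) (hR.isSkewForm (Matrix.J_transpose (Fin m) F) hN) hca hua a).symm
  rfl

theorem HasInv.conj {b : Nat.Partition (2 * m) × Finset ℕ} (h : HasInv N b)
    {C D : Matrix (Fin m ⊕ Fin m) (Fin m ⊕ Fin m) F} (hCD : C * D = 1) (hDC : D * C = 1)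
    (hC : Cᵀ * Matrix.J (Fin m) F * C = Matrix.J (Fin m) F) : HasInv (C * N * D) b := by
  obtain ⟨P, Q, hR, hS⟩ := h
  refine ⟨C * P, Q * D, ⟨?_, ?_, ?_⟩, ?_⟩
  · rw [Matrix.mul_assoc, ← Matrix.mul_assoc P, hR.1, Matrix.one_mul, hCD]
  · rw [Matrix.mul_assoc, ← Matrix.mul_assoc D, hDC, Matrix.one_mul, hR.2.1]
  · rw [Matrix.mul_assoc, ← Matrix.mul_assoc D, hDC, Matrix.one_mul, Matrix.mul_assoc, hR.2.2, Matrix.mul_assoc]
  · rw [← hS, signs, signs]
    have e : (C * P)ᵀ * Matrix.J (Fin m) F * (C * P) = Pᵀ * Matrix.J (Fin m) F * P := by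
      calc (C * P)ᵀ * Matrix.J (Fin m) F * (C * P) = Pᵀ * (Cᵀ * Matrix.J (Fin m) F * C) * P := by
            simp only [transpose_mul, Matrix.mul_assoc]
        _ = _ := by rw [hC]
    rw [e]

section

variable {p : ℕ} [Fact p.Prime] [CharP F p]

/-- The same invariant gives conjugate matrices, by an isometry. -/
theorem exists_conj_of_hasInv (hp : p ≠ 2) (h2 : (2 : F) ≠ 0)
    {N' : Matrix (Fin m ⊕ Fin m) (Fin m ⊕ Fin m) F}
    (hN : Nᵀ * Matrix.J (Fin m) F = -(Matrix.J (Fin m) F * N))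
    (hN' : N'ᵀ * Matrix.J (Fin m) F = -(Matrix.J (Fin m) F * N'))
    {b : Nat.Partition (2 * m) × Finset ℕ} (h : HasInv N b) (h' : HasInv N' b) :
    ∃ C D : Matrix (Fin m ⊕ Fin m) (Fin m ⊕ Fin m) F, C * D = 1 ∧ D * C = 1 ∧
      Cᵀ * Matrix.J (Fin m) F * C = Matrix.J (Fin m) F ∧ C * N * D = N' := by
  obtain ⟨P, Q, hR, hS⟩ := h
  obtain ⟨P', Q', hR', hS'⟩ := h'
  have hu : IsUnit (Matrix.J (Fin m) F) :=
    (Matrix.isUnit_iff_isUnit_det _).2 (Matrix.isUnit_det_J _ _)
  have hG := hR.isSkewForm (Matrix.J_transpose (Fin m) F) hN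
  have hG' := hR'.isSkewForm (Matrix.J_transpose (Fin m) F) hN'
  obtain ⟨a, hac, ⟨u, rfl⟩, ha⟩ := congr_of_squares (partFun_pos b.1) hp h2 hG (hR.isUnit_form hu)
    hG' (hR'.isUnit_form hu) (partFun_lt b.1) (fun k hk => by
      have hk' : partFun b.1 k ∈ evenParts b.1 :=
        Finset.mem_filter.2 ⟨Multiset.mem_toFinset.2 (partFun_mem b.1 k), hk⟩
      have e : partFun b.1 k ∈ signs b.1 P ↔ partFun b.1 k ∈ signs b.1 P' := by rw [hS, hS']
      simpa [signs, hk'] using e)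
  have huc : Commute (↑u⁻¹ : Matrix (Ix (partFun b.1)) (Ix (partFun b.1)) F) (jshift (partFun b.1)) :=
    hac.units_inv_left
  set U : Matrix (Ix (partFun b.1)) (Ix (partFun b.1)) F := u.val
  set V : Matrix (Ix (partFun b.1)) (Ix (partFun b.1)) F := (↑u⁻¹ : Matrix (Ix (partFun b.1)) (Ix (partFun b.1)) F)
  have hUV : U * V = 1 := u.mul_inv
  have hVU : V * U = 1 := u.inv_mul
  refine ⟨P' * V * Q, P * U * Q', ?_, ?_, ?_, ?_⟩
  · calc P' * V * Q * (P * U * Q') = P' * (V * (Q * P) * U) * Q' := by simp only [Matrix.mul_assoc]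
      _ = 1 := by rw [hR.2.1, Matrix.mul_one, hVU, Matrix.mul_one, hR'.1]
  · calc P * U * Q' * (P' * V * Q) = P * (U * (Q' * P') * V) * Q := by simp only [Matrix.mul_assoc]
      _ = 1 := by rw [hR'.2.1, Matrix.mul_one, hUV, Matrix.mul_one, hR.1]
  · calc (P' * V * Q)ᵀ * Matrix.J (Fin m) F * (P' * V * Q)
        = Qᵀ * (Vᵀ * (P'ᵀ * Matrix.J (Fin m) F * P') * V) * Q := by
          simp only [transpose_mul, Matrix.mul_assoc]
      _ = (P * (U * V) * Q)ᵀ * Matrix.J (Fin m) F * (P * (U * V) * Q) := by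
          rw [← ha]; simp only [transpose_mul, Matrix.mul_assoc]
      _ = _ := by rw [hUV, Matrix.mul_one, hR.1, transpose_one, Matrix.one_mul, Matrix.mul_one]
  · calc P' * V * Q * N * (P * U * Q') = P' * V * (Q * (N * P)) * U * Q' := by simp only [Matrix.mul_assoc]
      _ = P' * (V * (jshift (partFun b.1) : Matrix (Ix (partFun b.1)) (Ix (partFun b.1)) F)) * U * Q' := by
          rw [hR.2.2, ← Matrix.mul_assoc Q, hR.2.1, Matrix.one_mul]; simp only [Matrix.mul_assoc]
      _ = P' * (jshift (partFun b.1) : Matrix (Ix (partFun b.1)) (Ix (partFun b.1)) F) * (V * U) * Q' := by rw [huc.eq]; simp only [Matrix.mul_assoc]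
      _ = N' := by rw [hVU, Matrix.mul_one, ← hR'.2.2, Matrix.mul_assoc, hR'.1, Matrix.mul_one]

end

/-- Constraints on the invariant. -/
theorem HasInv.valid (h2 : (2 : F) ≠ 0) (hN : Nᵀ * Matrix.J (Fin m) F = -(Matrix.J (Fin m) F * N))
    {b : Nat.Partition (2 * m) × Finset ℕ} (h : HasInv N b) :
    (∀ j, Odd j → Even (b.1.parts.count j)) ∧ b.2 ⊆ evenParts b.1 := by
  obtain ⟨P, Q, hR, hS⟩ := h
  refine ⟨fun j hj => ?_, hS ▸ Finset.filter_subset _ _⟩
  rw [← card_partFun]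
  exact even_card_of_odd (partFun_pos b.1) h2 (hR.isSkewForm (Matrix.J_transpose (Fin m) F) hN)
    (hR.isUnit_form ((Matrix.isUnit_iff_isUnit_det _).2 (Matrix.isUnit_det_J _ _))) hj

theorem exists_block (h2 : (2 : F) ≠ 0) (β : Type*) [Fintype β] [DecidableEq β] (a : ℕ)
    (hodd : Odd a → Even (Fintype.card β)) (c : Prop) :
    ∃ A : Matrix β β F, IsUnit A ∧ Aᵀ = (-1 : F) ^ a • A ∧ (Even a → Nonempty β → (IsSquare A.det ↔ c)) := by
  rcases Nat.even_or_odd a with ha | ha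
  · have hF : ringChar F ≠ 2 := fun hc => h2 (by exact_mod_cast (ringChar.spec F 2).2 (by rw [hc]))
    obtain ⟨ν, hν⟩ := FiniteField.exists_nonsquare hF
    have hν0 : ν ≠ 0 := fun e => hν (e ▸ IsSquare.zero)
    rcases isEmpty_or_nonempty β with hE | ⟨⟨b₀⟩⟩
    · exact ⟨1, isUnit_one, by rw [transpose_one, ha.neg_one_pow, one_smul],
        fun _ hne => (hne.elim hE.false).elim⟩
    by_cases hc : c
    · exact ⟨1, isUnit_one, by rw [transpose_one, ha.neg_one_pow, one_smul],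
        fun _ _ => by simp [hc]⟩
    · refine ⟨Matrix.diagonal (Function.update 1 b₀ ν), ?_,
        by rw [diagonal_transpose, ha.neg_one_pow, one_smul], fun _ _ => ?_⟩
      · rw [Matrix.isUnit_iff_isUnit_det, det_diagonal, Finset.prod_update_of_mem (Finset.mem_univ b₀)]
        simpa using hν0
      · rw [det_diagonal, Finset.prod_update_of_mem (Finset.mem_univ b₀)]
        simp [hc, hν]
  · obtain ⟨k, hk⟩ := hodd ha
    let e : β ≃ Fin k ⊕ Fin k := Fintype.equivOfCardEq (by simp [hk])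
    refine ⟨(Matrix.J (Fin k) F).submatrix e e, ?_, ?_, fun he => absurd he (Nat.not_even_iff_odd.2 ha)⟩
    · rw [Matrix.isUnit_iff_isUnit_det, det_submatrix_equiv_self]
      exact Matrix.isUnit_det_J _ _
    · rw [transpose_submatrix, Matrix.J_transpose, ha.neg_one_pow, neg_one_smul]
      rfl

/-- Every signed partition occurs. -/
theorem exists_of_valid (h2 : (2 : F) ≠ 0) (b : Nat.Partition (2 * m) × Finset ℕ)
    (hc : ∀ j, Odd j → Even (b.1.parts.count j)) (hb : b.2 ⊆ evenParts b.1) :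
    ∃ N : Matrix (Fin m ⊕ Fin m) (Fin m ⊕ Fin m) F,
      IsNilpotent N ∧ Nᵀ * Matrix.J (Fin m) F = -(Matrix.J (Fin m) F * N) ∧ HasInv N b := by
  obtain ⟨μ, S⟩ := b
  choose A hA hAsym hAsq using fun i : Fin (2 * m + 1) =>
    exists_block (F := F) h2 {k // partFun μ k = (i : ℕ)} (i : ℕ) (fun hi => by
      rw [card_partFun]; exact hc _ hi) ((i : ℕ) ∈ S)
  obtain ⟨G, hG, hGu, hGA⟩ := exists_of_subN (partFun_pos μ) (partFun_lt μ) A hA hAsym
  have hcard : Fintype.card (Fin m ⊕ Fin m) = Fintype.card (Ix (partFun μ)) := by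
    have : ∑ k, partFun μ k = 2 * m := (congrArg Multiset.sum (parts_partFun μ)).trans μ.parts_sum
    simp [Fintype.card_sigma, this, two_mul]
  obtain ⟨P, Q, hPQ, hQP, hP⟩ := alt_congr h2 hcard (Matrix.J_transpose (Fin m) F)
    (Matrix.isUnit_det_J (Fin m) F).ne_zero hG.1 ((Matrix.isUnit_iff_isUnit_det _).1 hGu).ne_zero
  let M : Matrix (Ix (partFun μ)) (Ix (partFun μ)) F := jshift (partFun μ)
  refine ⟨P * M * Q, ?_, ?_, P, Q, ⟨hPQ, hQP, ?_⟩, ?_⟩
  · obtain ⟨j, hj⟩ : IsNilpotent (jshift (partFun μ) : Matrix (Ix (partFun μ)) (Ix (partFun μ)) F) := by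
      refine ⟨2 * m, ?_⟩
      have h := Cfsg.Agent.JordanForm57.jordan_profile (F := F) (partFun μ) (partFun_pos μ) (2 * m)
      rw [jordan_sub_one, partProfile_eq_zero (fun a ha => by
        rw [Cfsg.Agent.JordanForm57.partsOf, parts_partFun] at ha
        exact (Multiset.le_sum_of_mem ha).trans μ.parts_sum.le)] at h
      rwa [Matrix.rank, Submodule.finrank_eq_zero, LinearMap.range_eq_bot, ← Matrix.toLin'_apply',
        LinearEquiv.map_eq_zero_iff] at h
    have hpow : ∀ i, (P * M * Q) ^ i = P * M ^ i * Q := fun i => by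
      induction i with
      | zero => simp [hPQ]
      | succ i ih =>
        rw [pow_succ, ih, pow_succ]
        calc P * M ^ i * Q * (P * M * Q) = P * M ^ i * (Q * P) * M * Q := by simp only [Matrix.mul_assoc]
          _ = _ := by rw [hQP, Matrix.mul_one]; simp only [Matrix.mul_assoc]
    exact ⟨j, by rw [hpow, show M ^ j = 0 from hj, Matrix.mul_zero, Matrix.zero_mul]⟩
  · calc (P * M * Q)ᵀ * Matrix.J (Fin m) F
        = Qᵀ * (Mᵀ * (Pᵀ * Matrix.J (Fin m) F * P)) * Q := by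
          rw [transpose_mul, transpose_mul]
          simp only [Matrix.mul_assoc]
          rw [hPQ, Matrix.mul_one]
      _ = -((P * Q)ᵀ * Matrix.J (Fin m) F * (P * M * Q)) := by
          rw [hP, hG.2, ← hP, Matrix.mul_neg, Matrix.neg_mul, transpose_mul]
          simp only [Matrix.mul_assoc, M]
      _ = _ := by rw [hPQ, transpose_one, Matrix.one_mul]
  · rw [Matrix.mul_assoc, hQP, Matrix.mul_one]
  · rw [signs, hP]
    refine Finset.ext fun a => ?_
    rw [Finset.mem_filter]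
    constructor
    · rintro ⟨ha, hsq⟩
      obtain ⟨hmem, hev⟩ := Finset.mem_filter.1 ha
      have hlt : a < 2 * m + 1 :=
        Nat.lt_succ_of_le ((Multiset.le_sum_of_mem (Multiset.mem_toFinset.1 hmem)).trans μ.parts_sum.le)
      have hne : Nonempty {k // partFun μ k = a} := Fintype.card_pos_iff.1 (by
        rw [card_partFun]; exact Multiset.count_pos.2 (Multiset.mem_toFinset.1 hmem))
      rw [hGA ⟨a, hlt⟩] at hsq
      exact (hAsq ⟨a, hlt⟩ hev hne).1 hsq
    · intro haS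
      have ha := hb haS
      obtain ⟨hmem, hev⟩ := Finset.mem_filter.1 ha
      have hlt : a < 2 * m + 1 :=
        Nat.lt_succ_of_le ((Multiset.le_sum_of_mem (Multiset.mem_toFinset.1 hmem)).trans μ.parts_sum.le)
      have hne : Nonempty {k // partFun μ k = a} := Fintype.card_pos_iff.1 (by
        rw [card_partFun]; exact Multiset.count_pos.2 (Multiset.mem_toFinset.1 hmem))
      refine ⟨ha, ?_⟩
      rw [hGA ⟨a, hlt⟩]
      exact (hAsq ⟨a, hlt⟩ hev hne).2 haS

end CfsgLib.SympUnip
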