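import Cfsg.Agent.Lib.QuadFin.Gram
import Cfsg.Agent.Lib.AutPSp.SympBasis

/-!
Congruence of symmetric and of alternating matrices over finite fields of odd order.
-/

set_option autoImplicit false
set_option linter.unusedSectionVars false

namespace CfsgLib.SympUnip

open Matrix

variable {F : Type*} [Field F] {ι κ : Type*} [Fintype ι] [DecidableEq ι] [Fintype κ] [DecidableEq κ]

theorem isAlt_of_skew (h2 : (2 : F) ≠ 0) {A : Matrix ι ι F} (hA : Aᵀ = -A) (v : ι → F) :
    v ⬝ᵥ A *ᵥ v = 0 := by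
  have h : v ⬝ᵥ A *ᵥ v = -(v ⬝ᵥ A *ᵥ v) := by
    conv_lhs => rw [dotProduct_mulVec, ← mulVec_transpose, hA]
    simp [neg_mulVec, dotProduct_comm]
  have h' : (2 : F) * (v ⬝ᵥ A *ᵥ v) = 0 := by linear_combination h
  exact (mul_eq_zero.1 h').resolve_left h2

theorem even_card_of_skew (h2 : (2 : F) ≠ 0) {A : Matrix ι ι F} (hA : Aᵀ = -A) (hu : A.det ≠ 0) :
    Even (Fintype.card ι) := by
  by_contra hodd
  have h := congrArg Matrix.det hA
  rw [det_transpose, det_neg, (Nat.not_even_iff_odd.1 hodd).neg_one_pow] at h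
  exact hu ((mul_eq_zero.1 (by linear_combination h : (2 : F) * A.det = 0)).resolve_left h2)

/-- A non-singular skew matrix is congruent to the standard one. -/
theorem alt_normal (h2 : (2 : F) ≠ 0) {A : Matrix ι ι F} (hA : Aᵀ = -A) (hu : A.det ≠ 0) :
    ∃ k : ℕ, k + k = Fintype.card ι ∧ ∃ (C : Matrix ι (Fin k ⊕ Fin k) F) (D : Matrix (Fin k ⊕ Fin k) ι F),
      C * D = 1 ∧ D * C = 1 ∧ Cᵀ * A * C = Matrix.J (Fin k) F := by
  obtain ⟨k, hk⟩ := even_card_of_skew h2 hA hu
  have hB : (Matrix.toLinearMap₂' F A).SeparatingLeft :=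
    LinearMap.separatingLeft_toLinearMap₂'_of_det_ne_zero' hu
  have hAlt : LinearMap.BilinForm.IsAlt (Matrix.toLinearMap₂' F A) := fun v => by
    rw [Matrix.toLinearMap₂'_apply']
    exact isAlt_of_skew h2 hA v
  obtain ⟨c, hc⟩ := CfsgLib.AutPSp.exists_symp_cols (m := k) _ hAlt hB (by rw [Module.finrank_pi]; exact hk)
  let C : Matrix ι (Fin k ⊕ Fin k) F := Matrix.of fun r i => c i r
  have hC : Cᵀ * A * C = Matrix.J (Fin k) F := by
    ext i j
    have := hc i j
    rw [Matrix.toLinearMap₂'_apply', Cfsg.sympForm, mulVec_single_one, single_dotProduct, one_mul] at this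
    rw [Matrix.mul_assoc]
    exact this
  refine ⟨k, hk.symm, C, -Matrix.J (Fin k) F * Cᵀ * A, ?_, ?_, hC⟩
  · refine (Matrix.mul_eq_one_comm_of_card_eq _ _ F ?_).1 ?_
    · simp [hk]
    · rw [Matrix.mul_assoc, Matrix.mul_assoc, ← Matrix.mul_assoc Cᵀ, hC, Matrix.neg_mul, Matrix.J_squared, neg_neg]
  · rw [Matrix.mul_assoc, Matrix.mul_assoc, ← Matrix.mul_assoc Cᵀ, hC, Matrix.neg_mul, Matrix.J_squared, neg_neg]

/-- Non-singular skew matrices of the same size are congruent. -/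
theorem alt_congr (h2 : (2 : F) ≠ 0) (hcard : Fintype.card ι = Fintype.card κ) {A : Matrix ι ι F}
    (hA : Aᵀ = -A) (hu : A.det ≠ 0) {A' : Matrix κ κ F} (hA' : A'ᵀ = -A') (hu' : A'.det ≠ 0) :
    ∃ (C : Matrix ι κ F) (D : Matrix κ ι F), C * D = 1 ∧ D * C = 1 ∧ Cᵀ * A * C = A' := by
  obtain ⟨k, hk, C, D, hCD, hDC, hC⟩ := alt_normal h2 hA hu
  obtain ⟨k', hk', C', D', hCD', hDC', hC'⟩ := alt_normal h2 hA' hu'
  obtain rfl : k = k' := by omega
  refine ⟨C * D', C' * D, ?_, ?_, ?_⟩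
  · rw [Matrix.mul_assoc, ← Matrix.mul_assoc D', hDC', Matrix.one_mul, hCD]
  · rw [Matrix.mul_assoc, ← Matrix.mul_assoc D, hDC, Matrix.one_mul, hCD']
  · calc (C * D')ᵀ * A * (C * D') = D'ᵀ * (Cᵀ * A * C) * D' := by
          rw [transpose_mul]; simp only [Matrix.mul_assoc]
      _ = (C' * D')ᵀ * A' * (C' * D') := by rw [hC, ← hC', transpose_mul]; simp only [Matrix.mul_assoc]
      _ = A' := by rw [hCD', transpose_one, Matrix.one_mul, Matrix.mul_one]

/-- Non-singular symmetric matrices with determinants in the same square class are congruent. -/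
theorem sym_congr [Fintype F] (h2 : (2 : F) ≠ 0) {A A' : Matrix ι ι F} (hA : Aᵀ = A) (hA' : A'ᵀ = A')
    (hu : A.det ≠ 0) (hu' : A'.det ≠ 0) (hsq : IsSquare (A.det * A'.det)) :
    ∃ C : Matrix ι ι F, IsUnit C ∧ Cᵀ * A * C = A' := by
  set n := Fintype.card ι
  let e := Fintype.equivFin ι
  let Q : Matrix ι ι F → QuadraticForm F (Fin n → F) := fun B =>
    LinearMap.BilinMap.toQuadraticMap (Matrix.toLinearMap₂' F (B.submatrix e.symm e.symm))
  have hg : ∀ B : Matrix ι ι F, Bᵀ = B → QuadFin.gram ⇑(Q B) = (2 : F) • B.submatrix e.symm e.symm := by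
    intro B hB
    ext i j
    simp only [QuadFin.gram, Q, Matrix.of_apply, LinearMap.BilinMap.polar_toQuadraticMap,
      Matrix.toLinearMap₂'_apply', mulVec_single_one, single_dotProduct, smul_eq_mul, one_mul,
      Matrix.smul_apply, Matrix.submatrix_apply, Matrix.col_apply]
    rw [show B (e.symm j) (e.symm i) = B (e.symm i) (e.symm j) from congrFun (congrFun hB _) _]
    ring
  have hdet : ∀ B : Matrix ι ι F, Bᵀ = B → (QuadFin.gram ⇑(Q B)).det = 2 ^ n * B.det := by
    intro B hB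
    rw [hg B hB, det_smul, Fintype.card_fin, det_submatrix_equiv_self]
  have hnd : ∀ B : Matrix ι ι F, Bᵀ = B → B.det ≠ 0 → (Q B).polarBilin.Nondegenerate := by
    intro B hB hB0
    have h := (Matrix.nondegenerate_iff_det_ne_zero.2 (by rw [hdet B hB]; exact mul_ne_zero (pow_ne_zero _ h2) hB0) :
      (QuadFin.gram ⇑(Q B)).Nondegenerate)
    rw [QuadFin.gram_eq_toMatrix] at h
    exact (LinearMap.BilinForm.nondegenerate_toMatrix_iff _).1 h
  obtain ⟨g, hg'⟩ := (QuadFin.equiv_iff_isSquare h2 (Q A') (Q A) (hnd A' hA' hu') (hnd A hA hu)).2 (by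
    obtain ⟨r, hr⟩ := hsq
    exact ⟨2 ^ n * r, by rw [hdet A hA, hdet A' hA']; linear_combination (2 ^ n * 2 ^ n) * hr⟩)
  have h := QuadFin.gram_comp (Q A) g
  rw [show (fun v => Q A (g v)) = ⇑(Q A') from funext hg', hg A hA, hg A' hA', Matrix.mul_smul,
    Matrix.smul_mul] at h
  have h' := smul_right_injective _ h2 h
  set G := LinearMap.toMatrix' g.toLinearMap
  refine ⟨G.submatrix e e, ?_, ?_⟩
  · rw [Matrix.isUnit_iff_isUnit_det, det_submatrix_equiv_self, LinearMap.det_toMatrix']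
    exact LinearEquiv.isUnit_det' g
  · have h3 := congrArg (fun X : Matrix (Fin n) (Fin n) F => X.submatrix e e) h'
    simp only [submatrix_submatrix, Equiv.symm_comp_self, submatrix_id_id] at h3
    rw [h3, transpose_submatrix, ← submatrix_mul_equiv (e₂ := e), ← submatrix_mul_equiv (e₂ := e)]
    simp [submatrix_submatrix]

end CfsgLib.SympUnip
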